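import Cfsg.Agent.Lib.Linear.SLBlocks.Uniqueness
import Cfsg.Agent.Lib.Linear.SLBlocks.Radical
import Cfsg.Agent.Lib.Block.FullCount
import Cfsg.Agent.Lib.Linear.SLBasic

/-!
# The blocks of `SL n` in the defining characteristic

One block of defect zero, and one block of full defect for each character of the centre.
-/

set_option autoImplicit false
set_option linter.unusedSectionVars false

namespace Cfsg.Lib.Linear.SLBlocks

open Cfsg Cfsg.Lib.Block

variable {n : ℕ} {F : Type*} [Field F] [Fintype F] {p : ℕ} [Fact p.Prime] [CharP F p]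
  {M : Ideal AlgInt}

local notation "G" => Matrix.SpecialLinearGroup (Fin n) F

/-- A block has defect zero or full defect. -/
theorem defect_zero_or_full [Fintype G] (hn : 1 ≤ n) (hM : IsPModular p M)
    {B : Set (IrrCharacter G)} (hB : IsPBlock M B) :
    blockDefect p B = 0 ∨ blockDefect p B = (Nat.card G).factorization p := by
  classical
  obtain ⟨D, hD⟩ := exists_defectGroup hM hB
  rcases eq_or_ne D ⊥ with hbot | hne
  · left
    have h := card_defectGroup hM hB hD
    rw [hbot, Subgroup.card_bot] at h
    exact (Nat.pow_eq_one.1 h.symm).resolve_left (Fact.out : p.Prime).ne_one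
  right
  obtain ⟨g, hg, P, hP⟩ := isDefectGroup_iff.1 hD
  haveI : Fintype ↥(Subgroup.normalizer (D : Set G)) := Fintype.ofFinite _
  obtain ⟨b, -, -, hrad⟩ := exists_normalizer_block hM hB hD
  have hord : ¬ p ∣ orderOf g := fun h => hg.2.1 (by
    rw [blockCoeff_eq_zero_of_dvd hM (vInt_indVec hM hB) h]
    exact memLocalIdeal_zero hM)
  have hc : g ∈ Subgroup.center G := central_of_radical p hn (isPGroup_defectGroup hM hD) hne hrad
    (fun d hd => (Subgroup.mem_centralizer_iff.1 (cenSyl_le g P (hP ▸ hd)) g rfl).symm) hord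
  rw [← factorization_cenCard_defectClass hM hB hg, cenCard,
    show Subgroup.centralizer ({g} : Set G) = ⊤ from eq_top_iff.2 fun x _ =>
      Subgroup.mem_centralizer_iff.2 (by rintro h rfl; exact (Subgroup.mem_center_iff.1 hc x).symm),
    Subgroup.card_top]

theorem pos_factorization (hn : 2 ≤ n) : 0 < (Nat.card G).factorization p := by
  have h := factorization_card_SL (F := F) p (n := n) (by omega)
  by_contra h0
  rw [Nat.eq_zero_of_not_pos h0, pow_zero, eq_comm, Nat.pow_eq_one] at h
  rcases h with h | h
  · exact (Fintype.one_lt_card (α := F)).ne' h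
  · have : 1 ≤ n * (n - 1) / 2 := by
      rw [Nat.le_div_iff_mul_le two_pos]
      calc 1 * 2 ≤ n * 1 := by omega
        _ ≤ n * (n - 1) := Nat.mul_le_mul_left n (by omega)
    omega

/-- An element of order prime to `p` with centralizer of full `p`-part is central. -/
theorem hcen_SL [Fintype G] (hn : 2 ≤ n) (g : G) (hord : ¬ p ∣ orderOf g)
    (hfull : (cenCard g).factorization p = (Nat.card G).factorization p) : g ∈ Subgroup.center G := by
  obtain ⟨P⟩ : Nonempty (Sylow p (Subgroup.centralizer ({g} : Set G))) := inferInstance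
  have hcard : Nat.card ((P : Subgroup (Subgroup.centralizer ({g} : Set G))).map
      (Subgroup.centralizer ({g} : Set G)).subtype) = p ^ (Nat.card G).factorization p := by
    rw [Subgroup.card_map_of_injective (Subgroup.subtype_injective _), P.card_eq_multiplicity, ← hfull, cenCard]
  have hne : (Sylow.ofCard _ hcard : Subgroup G) ≠ ⊥ := by
    intro h
    have h1 := (Sylow.ofCard _ hcard).card_eq_multiplicity
    rw [h, Subgroup.card_bot, eq_comm, Nat.pow_eq_one] at h1
    exact h1.elim (Fact.out : p.Prime).ne_one (pos_factorization hn).ne'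
  refine central_of_full p (by omega) (Sylow.ofCard _ hcard) hne ?_ hord
  intro d hd
  obtain ⟨⟨e, he⟩, -, rfl⟩ := hd
  exact (Subgroup.mem_centralizer_iff.1 he g rfl).symm

/-- There is exactly one block of defect zero. -/
theorem card_defect_zero [Fintype G] (hn : 1 ≤ n) (hM : IsPModular p M) :
    Nat.card {B : Set (IrrCharacter G) // IsPBlock M B ∧ blockDefect p B = 0} = 1 := by
  obtain ⟨χ, hχ, huniq⟩ := existsUnique_full (F := F) p (n := n) hn
  have hblk := blockOf_eq_singleton_of_full hM χ hχ
  have heq : (charDegree (χ : G → ℂ)).factorization p = (Nat.card G).factorization p :=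
    le_antisymm (((Nat.factorization_le_iff_dvd (charDegree_pos χ).ne' Nat.card_pos.ne').2
      (charDegree_dvd_card χ)) p) hχ
  have h0 : blockDefect p (blockOf M (χ : G → ℂ)) = 0 :=
    (blockDefect_eq_zero_iff hM (isPBlock_blockOf χ)).2 ⟨χ, hblk, heq⟩
  refine Nat.card_eq_one_iff_exists.2 ⟨⟨_, isPBlock_blockOf χ, h0⟩, fun B => Subtype.ext ?_⟩
  obtain ⟨ψ, hψ, hψd⟩ := (blockDefect_eq_zero_iff hM B.2.1).1 B.2.2
  rw [hψ, huniq ψ hψd.ge]
  exact hblk.symm

/-- The number of blocks: the order of the centre and one more. -/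
theorem card_blocks [Fintype G] (hn : 2 ≤ n) (hM : IsPModular p M) :
    Nat.card {B : Set (IrrCharacter G) // IsPBlock M B} = Nat.gcd n (Fintype.card F - 1) + 1 := by
  classical
  haveI : Nonempty (Fin n) := ⟨⟨0, by omega⟩⟩
  haveI : Finite (Set (IrrCharacter G)) := inferInstance
  have hZ : Nat.card ↥(Subgroup.center G) = Nat.gcd n (Fintype.card F - 1) := by
    rw [Cfsg.Lib.Linear.card_center_SL, Fintype.card_fin]
  have hpos := pos_factorization (F := F) (p := p) hn
  have hndvd : ¬ p ∣ Nat.card ↥(Subgroup.center G) := by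
    intro h
    obtain ⟨k, hp, hk⟩ := FiniteField.card F p
    have h1 : p ∣ Fintype.card F := hk ▸ dvd_pow_self p k.pos.ne'
    have h2 := Nat.dvd_sub h1 ((hZ ▸ h).trans (Nat.gcd_dvd_right _ _))
    rw [Nat.sub_sub_self Fintype.card_pos] at h2
    exact hp.ne_one (Nat.dvd_one.1 h2)
  have hfull := card_full_blocks hM (hcen_SL hn) (fun B hB => defect_zero_or_full (by omega) hM hB) hpos hndvd
  rw [hZ] at hfull
  rw [← hfull, ← card_defect_zero (F := F) (n := n) (by omega) hM,
    Nat.card_congr (Equiv.sumCompl (fun B : {B : Set (IrrCharacter G) // IsPBlock M B} =>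
      blockDefect p B.1 = (Nat.card G).factorization p)).symm, Nat.card_sum]
  congr 1
  · exact Nat.card_congr (Equiv.subtypeSubtypeEquivSubtypeInter (IsPBlock M)
      (fun B => blockDefect p B = (Nat.card G).factorization p))
  · refine Nat.card_congr ((Equiv.subtypeSubtypeEquivSubtypeInter (IsPBlock M)
      (fun B => ¬ blockDefect p B = (Nat.card G).factorization p)).trans (Equiv.subtypeEquivRight fun B => ?_))
    refine ⟨fun h => ⟨h.1, (defect_zero_or_full (by omega) hM h.1).resolve_right h.2⟩, fun h => ⟨h.1, ?_⟩⟩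
    rw [h.2]; exact hpos.ne

end Cfsg.Lib.Linear.SLBlocks
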