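import Cfsg.Agent.Lib.Linear.SLBlocks.Fixed
import Cfsg.Agent.Lib.Linear.Unipotent.Steinberg
import Cfsg.Agent.Lib.Chev.Steinberg
import Cfsg.Agent.Lib.Char.Orthogonality

/-!
# The unique character of `SL n` of full defect degree

Such a character is the restriction of the Steinberg character of `GL n`.
-/

set_option autoImplicit false

namespace Cfsg.Lib.Linear.SLBlocks

open Matrix Module Cfsg Cfsg.Lib.Chev Cfsg.Lib.Char Cfsg.Lib.Linear.ParBlocks

variable {n : ℕ} {F : Type*} [Field F] [Fintype F]

local notation "G" => Matrix.SpecialLinearGroup (Fin n) F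

section Parabolic

variable (c : Fin n → ℕ)

theorem compLabel_eq_val (h : ∀ k, c k = 1) (r : Fin n) : compLabel c r = r.val := by
  have hc : ∑ i, c i = n := by simp [h]
  have hp : ∀ k : Fin n, pLE c k = k.val + 1 := fun k => by
    rw [pLE, Finset.sum_congr rfl fun j _ => h j, Finset.sum_const, smul_eq_mul, mul_one,
      show (Finset.univ.filter fun j : Fin n => j ≤ k) = Finset.Iic k by ext; simp, Fin.card_Iic]
  have key : ∀ k : Fin n, k.val < compLabel c r ↔ k.val < r.val := fun k => by
    rw [lt_compLabel_iff, hp]; omega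
  rcases lt_trichotomy (compLabel c r) r.val with h' | h' | h'
  · exact absurd ((key ⟨compLabel c r, compLabel_lt c hc r⟩).2 h') (lt_irrefl _)
  · exact h'
  · exact absurd ((key r).1 h') (lt_irrefl _)

theorem eq_one_of_compLabel (h : ∀ r : Fin n, compLabel c r = r.val) (hsum : ∀ k, pLE c k ≤ n) :
    ∀ k, c k = 1 := by
  have hp : ∀ k : Fin n, pLE c k = k.val + 1 := fun k => by
    have h1 : k.val + 1 ≤ pLE c k := by
      by_contra hlt
      have := (lt_compLabel_iff c k k).2 (by omega)
      rw [h] at this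
      exact lt_irrefl _ this
    by_cases hk : k.val + 1 < n
    · have := (lt_compLabel_iff c ⟨k.val + 1, hk⟩ k).1 (by rw [h]; exact Nat.lt_succ_self _)
      exact le_antisymm this h1
    · have := hsum k; have := k.isLt; omega
  intro k
  have hk := hp k
  rw [pLE, show (Finset.univ.filter fun j : Fin n => j ≤ k) = Finset.Iic k by ext; simp] at hk
  rw [← Finset.Iio_insert, Finset.sum_insert (by simp)] at hk
  rcases Nat.eq_zero_or_pos k.val with h0 | h0
  · rw [Finset.sum_eq_zero (fun j hj => absurd (Fin.lt_def.1 (Finset.mem_Iio.1 hj)) (by omega))] at hk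
    omega
  · have hpred := hp ⟨k.val - 1, by omega⟩
    rw [pLE] at hpred
    rw [show (Finset.univ.filter fun j : Fin n => j ≤ (⟨k.val - 1, by omega⟩ : Fin n)) = Finset.Iio k by
      ext x; simp only [Finset.mem_filter, Finset.mem_univ, true_and, Finset.mem_Iio, Fin.le_def, Fin.lt_def]; omega] at hpred
    simp only at hpred
    omega

theorem exists_join (hc : ∑ i, c i = n) (hid : ¬ ∀ r : Fin n, compLabel c r = r.val) :
    ∃ i j : Fin n, j.val = i.val + 1 ∧ compLabel c i = compLabel c j := by
  by_contra hno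
  push Not at hno
  refine hid ?_
  have hmono := Cfsg.Lib.Linear.Bruhat.compLabel_mono c
  have hge : ∀ (k : ℕ) (hk : k < n), k ≤ compLabel c ⟨k, hk⟩ := by
    intro k
    induction k with
    | zero => intro _; exact Nat.zero_le _
    | succ k ih =>
      intro hk
      have h1 := ih (by omega)
      have h2 := hmono (show (⟨k, by omega⟩ : Fin n) ≤ ⟨k + 1, hk⟩ from Nat.le_succ k)
      have h3 := hno ⟨k, by omega⟩ ⟨k + 1, hk⟩ rfl
      omega
  have hle : ∀ (m : ℕ) (hm : m < n), compLabel c ⟨n - 1 - m, by omega⟩ + m < n := by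
    intro m
    induction m with
    | zero => intro _; simpa using compLabel_lt c hc _
    | succ m ih =>
      intro hm
      have h1 := ih (by omega)
      have h2 := hmono (show (⟨n - 1 - (m + 1), by omega⟩ : Fin n) ≤ ⟨n - 1 - m, by omega⟩ from
        Fin.le_def.2 (by simp only; omega))
      have h3 := hno ⟨n - 1 - (m + 1), by omega⟩ ⟨n - 1 - m, by omega⟩ (by simp only; omega)
      omega
  intro r
  have h1 := hge r.val r.isLt
  have h2 := hle (n - 1 - r.val) (by omega)
  have e : (⟨n - 1 - (n - 1 - r.val), by omega⟩ : Fin n) = r := Fin.ext (by simp only; omega)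
  rw [e] at h2
  simp only [Fin.eta] at h1
  omega

/-- The part of a standard parabolic subgroup of determinant one. -/
noncomputable def parSL : Subgroup G := (parabolicGL n F c).comap Matrix.SpecialLinearGroup.toGL

theorem mem_parSL {g : G} : g ∈ parSL c ↔ (g : Matrix (Fin n) (Fin n) F).BlockTriangular (compLabel c) := Iff.rfl

theorem par_le_parSL : (par (lbl n) : Subgroup G) ≤ parSL c := fun g hg =>
  (mem_parSL c).2 fun r s hrs => mem_par.1 hg r s (by
    by_contra h
    exact absurd hrs (not_lt.2 (Cfsg.Lib.Linear.Bruhat.compLabel_mono c (Fin.le_def.2 (not_lt.1 h)))))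

/-- Fixed points on the cosets of a parabolic subgroup of `GL n` seen from `SL n`. -/
theorem fixedPointCharacter_toGL (g : G) :
    fixedPointCharacter (parabolicGL n F c) (Matrix.SpecialLinearGroup.toGL g) =
      fixedPointCharacter (parSL c) g := by
  let f : G ⧸ (parSL c : Subgroup G) → GL (Fin n) F ⧸ parabolicGL n F c :=
    Quotient.lift (fun x : G => ((Matrix.SpecialLinearGroup.toGL x : GL (Fin n) F) : GL (Fin n) F ⧸ parabolicGL n F c))
      fun a b h => QuotientGroup.eq.2 (by
        rw [← map_inv, ← map_mul]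
        exact (QuotientGroup.leftRel_apply (s := parSL c)).1 h)
  have hbij : Function.Bijective f := by
    refine ⟨fun x y => ?_, fun y => ?_⟩
    · induction x using QuotientGroup.induction_on with
      | _ a =>
        induction y using QuotientGroup.induction_on with
        | _ b =>
          intro h
          refine QuotientGroup.eq.2 ?_
          have := QuotientGroup.eq.1 h
          rw [← map_inv, ← map_mul] at this
          exact this
    · induction y using QuotientGroup.induction_on with
      | _ a =>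
        rcases Nat.eq_zero_or_pos n with hn | hn
        · haveI : IsEmpty (Fin n) := by rw [hn]; exact Fin.isEmpty
          exact ⟨((1 : G) : G ⧸ (parSL c : Subgroup G)), congrArg _ (Units.ext (Matrix.ext fun r => isEmptyElim r))⟩
        obtain ⟨d, hd⟩ : ∃ d, d = (a : Matrix (Fin n) (Fin n) F).det := ⟨_, rfl⟩
        have hd0 : d ≠ 0 := hd ▸ Matrix.GeneralLinearGroup.det_ne_zero a
        have hdet : (Matrix.diagonal (Pi.mulSingle (⟨0, hn⟩ : Fin n) d⁻¹)).det = d⁻¹ := by
          rw [Matrix.det_diagonal, Fintype.prod_pi_mulSingle']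
        obtain ⟨u, hu⟩ : ∃ u : GL (Fin n) F,
            (u : Matrix (Fin n) (Fin n) F) = Matrix.diagonal (Pi.mulSingle (⟨0, hn⟩ : Fin n) d⁻¹) :=
          ⟨Matrix.GeneralLinearGroup.mkOfDetNeZero (Matrix.diagonal (Pi.mulSingle (⟨0, hn⟩ : Fin n) d⁻¹))
            (by rw [hdet]; exact inv_ne_zero hd0), rfl⟩
        obtain ⟨x, hx⟩ : ∃ x : G, (x : Matrix (Fin n) (Fin n) F) = (a : Matrix (Fin n) (Fin n) F) * u :=
          ⟨⟨_, by rw [Matrix.det_mul, hu, hdet, ← hd, mul_inv_cancel₀ hd0]⟩, rfl⟩
        refine ⟨(x : G ⧸ (parSL c : Subgroup G)), QuotientGroup.eq.2 ?_⟩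
        rw [show Matrix.SpecialLinearGroup.toGL x = a * u from Units.ext hx, _root_.mul_inv_rev, inv_mul_cancel_right]
        exact inv_mem (show u ∈ parabolicGL n F c from fun r s hrs => by
          rw [hu]; exact Matrix.blockTriangular_diagonal _ hrs)
  unfold fixedPointCharacter
  congr 1
  refine (Nat.card_congr ((Equiv.ofBijective f hbij).subtypeEquiv fun x => ?_)).symm
  induction x using QuotientGroup.induction_on with
  | _ a =>
    simp only [MulAction.mem_fixedBy]
    constructor
    · intro h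
      show ((Matrix.SpecialLinearGroup.toGL g * Matrix.SpecialLinearGroup.toGL a : GL (Fin n) F) : GL (Fin n) F ⧸ parabolicGL n F c) = _
      rw [← map_mul]
      exact congrArg f h
    · intro h
      refine hbij.1 ?_
      show ((Matrix.SpecialLinearGroup.toGL (g * a) : GL (Fin n) F) : GL (Fin n) F ⧸ parabolicGL n F c) = _
      rw [map_mul]
      exact h

end Parabolic

variable {V : Type*} [AddCommGroup V] [Module ℂ V] [FiniteDimensional ℂ V]
  (ρ : Representation ℂ (Matrix.SpecialLinearGroup (Fin n) F) V)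

/-- The diagonal matrices fix the fixed vectors of the unitriangular group. -/
theorem fixed_borel [hirr : ρ.IsIrreducible]
    (hvan : ∀ u : G, u ∈ rad (lbl n) → u ≠ 1 → ρ.character u = 0)
    (hM : fixSub ρ (rad (lbl n) : Subgroup G) ≠ ⊥) :
    fixSub ρ (par (lbl n) : Subgroup G) = fixSub ρ (rad (lbl n) : Subgroup G) := by
  refine le_antisymm (fixSub_anti ρ (rad_le_par _)) fun v hv => (mem_fixSub ρ).2 ?_
  -- diagonal elements, clearing one coordinate at a time
  have hdiag : ∀ (k : ℕ) (d : Fin n → F) (g : G), (g : Matrix (Fin n) (Fin n) F) = Matrix.diagonal d →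
      (∀ r : Fin n, r.val + k < n → d r = 1) → ρ g v = v := by
    intro k
    induction k with
    | zero =>
      intro d g hg h
      have : g = 1 := Subtype.ext (by
        rw [hg, Matrix.SpecialLinearGroup.coe_one, ← Matrix.diagonal_one]
        exact congrArg _ (funext fun r => h r (by omega)))
      rw [this, map_one]; rfl
    | succ k ih =>
      intro d g hg h
      rcases Nat.lt_or_ge k n with hk | hk
      swap
      · exact ih d g hg fun r hr => absurd hr (by omega)
      obtain ⟨i, hi⟩ : ∃ i : Fin n, i.val = n - 1 - k := ⟨⟨n - 1 - k, by omega⟩, rfl⟩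
      have hdet : ∏ r, d r = 1 := by rw [← Matrix.det_diagonal, ← hg]; exact g.2
      have hd0 : d i ≠ 0 := fun e => one_ne_zero (hdet.symm.trans (Finset.prod_eq_zero (Finset.mem_univ i) e))
      by_cases hlast : i.val + 1 < n
      · obtain ⟨j, hj⟩ : ∃ j : Fin n, j.val = i.val + 1 := ⟨⟨i.val + 1, hlast⟩, rfl⟩
        have hne : i ≠ j := Fin.ne_of_val_ne (by omega)
        obtain ⟨d', hd'⟩ : ∃ d' : Fin n → F, ∀ r, d' r = if r = i then 1 else if r = j then d i * d j else d r :=
          ⟨_, fun r => rfl⟩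
        have e : ((th hne (d i)⁻¹ * g : G) : Matrix (Fin n) (Fin n) F) = Matrix.diagonal d' := by
          ext r s
          rw [Matrix.SpecialLinearGroup.coe_mul, coe_th hne (inv_ne_zero hd0), hg, twoMat_mul_apply hne,
            Matrix.diagonal_apply, Matrix.diagonal_apply, Matrix.diagonal_apply, Matrix.diagonal_apply, hd']
          by_cases h1 : r = i <;> by_cases h2 : r = j <;> by_cases h3 : r = s <;> simp_all [eq_comm]
        have h1 := ih d' _ e fun r hr => by
          rw [hd']
          by_cases h1 : r = i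
          · rw [if_pos h1]
          rw [if_neg h1]
          by_cases h2 : r = j
          · subst h2; omega
          rw [if_neg h2]
          refine h r ?_
          have := Fin.val_ne_of_ne h1
          omega
        have h2 := (fixed_steinberg_type ρ hvan hM hj hv).1 (d i) hd0
        have h3 : th hne (d i) * (th hne (d i)⁻¹ * g) = g := by
          rw [← mul_assoc, show th hne (d i) * th hne (d i)⁻¹ = (1 : G) from Subtype.ext (by
            rw [Matrix.SpecialLinearGroup.coe_mul, coe_th hne hd0, coe_th hne (inv_ne_zero hd0), twoMat_mul hne,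
              Matrix.SpecialLinearGroup.coe_one, ← twoMat_one hne]
            congr 1 <;> simp [hd0]), one_mul]
        rw [← h3, apply_mul, h1]
        exact h2
      · refine ih d g hg fun r hr => ?_
        by_cases hr' : r.val + (k + 1) < n
        · exact h r hr'
        obtain rfl : r = i := Fin.ext (by omega)
        rw [← hdet]
        refine (Finset.prod_eq_single r (fun s _ hs => h s ?_) fun e => absurd (Finset.mem_univ r) e).symm
        have := s.isLt
        have := Fin.val_ne_of_ne hs
        omega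
  intro b hb
  -- split off the diagonal
  obtain ⟨d, hd⟩ : ∃ d : Fin n → F, ∀ r, d r = (b : Matrix (Fin n) (Fin n) F) r r := ⟨_, fun r => rfl⟩
  have htri : (b : Matrix (Fin n) (Fin n) F).IsUpperTriangular := fun r s h => mem_par.1 hb r s (Fin.lt_def.1 h)
  have hdet : (Matrix.diagonal d).det = 1 := by
    rw [Matrix.det_diagonal, Finset.prod_congr rfl fun r _ => hd r, ← Matrix.det_of_isUpperTriangular htri]
    exact b.2
  obtain ⟨g, hg⟩ : ∃ g : G, (g : Matrix (Fin n) (Fin n) F) = Matrix.diagonal d := ⟨⟨_, hdet⟩, rfl⟩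
  have hd0 : ∀ r, d r ≠ 0 := fun r e => one_ne_zero ((hdet.symm.trans (Matrix.det_diagonal)).trans
    (Finset.prod_eq_zero (Finset.mem_univ r) e))
  obtain ⟨u, hu, hbu⟩ : ∃ u ∈ (rad (lbl n) : Subgroup G), b = g * u := by
    refine ⟨g⁻¹ * b, fun r s hrs => ?_, (mul_inv_cancel_left g b).symm⟩
    have hgi : ((g⁻¹ : G) : Matrix (Fin n) (Fin n) F) = Matrix.diagonal fun r => (d r)⁻¹ := by
      have h1 : Matrix.diagonal d * ((g⁻¹ : G) : Matrix (Fin n) (Fin n) F) = 1 := by
        rw [← hg, ← Matrix.SpecialLinearGroup.coe_mul, mul_inv_cancel, Matrix.SpecialLinearGroup.coe_one]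
      have h2 : (Matrix.diagonal fun r => (d r)⁻¹) * Matrix.diagonal d = 1 := by
        rw [Matrix.diagonal_mul_diagonal, ← Matrix.diagonal_one]
        exact congrArg _ (funext fun r => inv_mul_cancel₀ (hd0 r))
      exact (left_inv_eq_right_inv h2 h1).symm
    rw [Matrix.SpecialLinearGroup.coe_mul, hgi, Matrix.sub_apply, Matrix.diagonal_mul]
    by_cases h : r = s
    · subst h; rw [← hd, inv_mul_cancel₀ (hd0 r), Matrix.one_apply_eq, sub_self]
    · rw [Matrix.one_apply_ne h, mem_par.1 hb r s (lt_of_le_of_ne hrs (fun e => h (Fin.ext e).symm)), mul_zero,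
        sub_zero]
  rw [hbu, apply_mul, (mem_fixSub ρ).1 hv u hu]
  exact hdiag n d g hg fun r hr => absurd hr (by omega)

/-- A non-minimal parabolic subgroup has no fixed vectors. -/
theorem fixed_parSL_eq_bot [hirr : ρ.IsIrreducible]
    (hvan : ∀ u : G, u ∈ rad (lbl n) → u ≠ 1 → ρ.character u = 0)
    (hM : fixSub ρ (rad (lbl n) : Subgroup G) ≠ ⊥) (c : Fin n → ℕ) (hc : ∑ i, c i = n)
    (hid : ¬ ∀ r : Fin n, compLabel c r = r.val) : fixSub ρ (parSL c : Subgroup G) = ⊥ := by
  obtain ⟨i, j, hij, hl⟩ := exists_join c hc hid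
  have hne : i ≠ j := Fin.ne_of_val_ne (by omega)
  refine (Submodule.eq_bot_iff _).2 fun v hv => ?_
  have hvU := fixSub_anti ρ ((rad_le_par (F := F) (lbl n)).trans (par_le_parSL c)) hv
  have h2 := (fixed_steinberg_type ρ hvan hM hij hvU).2
  have hmem : ∀ g : G, g ∈ par (lblJoin i j) → g ∈ parSL c := fun g hg => (mem_parSL c).2 fun r s hrs =>
    mem_par.1 hg r s (by
      by_contra h
      have hle : lblJoin i j r ≤ lblJoin i j s := not_lt.1 h
      refine absurd hrs (not_lt.2 ?_)
      have hm := Cfsg.Lib.Linear.Bruhat.compLabel_mono c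
      simp only [lblJoin] at hle
      split_ifs at hle with h1 h2 h3
      · rw [h1, h2]
      · rw [h1, ← hl]; exact hm (Fin.le_def.2 hle)
      · rw [h3, ← hl]; exact hm (Fin.le_def.2 hle)
      · exact hm (Fin.le_def.2 hle))
  have hfix : ∀ a, ρ (tx hne a * tn hne 1) v = v := fun a => (mem_fixSub ρ).1 hv _ (mul_mem
    (hmem _ (twoMat_mem_par i j hne (coe_tx hne a))) (hmem _ (twoMat_mem_par i j hne (coe_tn hne one_ne_zero))))
  rw [Finset.sum_congr rfl (fun a _ => hfix a), Finset.sum_const, Finset.card_univ] at h2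
  have : ((Fintype.card F + 1 : ℕ) : ℂ) • v = 0 := by
    rw [Nat.cast_smul_eq_nsmul, add_smul, one_smul, h2, neg_add_cancel]
  exact (smul_eq_zero.1 this).resolve_left (Nat.cast_ne_zero.2 (Nat.succ_ne_zero _))

/-- The pairing with the restricted Steinberg character does not vanish. -/
theorem sum_steinberg_mul_ne_zero [Fintype G] [hirr : ρ.IsIrreducible]
    (hvan : ∀ u : G, u ∈ rad (lbl n) → u ≠ 1 → ρ.character u = 0) (h1 : ρ.character 1 ≠ 0) :
    ∑ g : G, unipotentCharacterGL n F (fun _ => 1) (Matrix.SpecialLinearGroup.toGL g) * ρ.character g ≠ 0 := by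
  classical
  haveI : Fintype ↥(rad (lbl n) : Subgroup G) := Fintype.ofFinite _
  have hM : fixSub ρ (rad (lbl n) : Subgroup G) ≠ ⊥ := fun h => h1 (by
    have := card_mul_finrank_fixSub ρ (rad (lbl n) : Subgroup G)
    rw [h, finrank_bot, Nat.cast_zero, mul_zero, Finset.sum_eq_single (1 : ↥(rad (lbl n) : Subgroup G))
      (fun s _ hs => hvan _ s.2 (fun e => hs (Subtype.ext e))) (fun e => absurd (Finset.mem_univ _) e)] at this
    exact this.symm)
  have hpair : ∀ c : Fin n → ℕ, ∑ g : G, fixedPointCharacter (parabolicGL n F c) (Matrix.SpecialLinearGroup.toGL g) *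
      ρ.character g = (Nat.card G : ℂ) * (finrank ℂ ↥(fixSub ρ (parSL c : Subgroup G)) : ℂ) := by
    intro c
    haveI : Fintype ↥(parSL c : Subgroup G) := Fintype.ofFinite _
    simp only [fixedPointCharacter_toGL]
    rw [sum_fixedPoint_mul _ (fun g x => ρ.char_conj g x), ← card_mul_finrank_fixSub, ← mul_assoc, ← Nat.cast_mul,
      Subgroup.index_mul_card]
  simp only [unipotentCharacterGL, Finset.sum_mul]
  rw [Finset.sum_comm, Finset.sum_eq_single (1 : Equiv.Perm (Fin n))]
  · have hone : ∀ r : Fin n, compLabel (fun i : Fin n => 1 + i.val - ((1 : Equiv.Perm (Fin n)) i).val) r = r.val :=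
      compLabel_eq_val _ fun k => by simp
    rw [Finset.sum_congr rfl (fun g _ => by rw [if_pos (fun i => by simp)])]
    simp only [map_one, Units.val_one, Int.cast_one, one_mul]
    rw [hpair]
    refine mul_ne_zero (Nat.cast_ne_zero.2 Nat.card_pos.ne') (Nat.cast_ne_zero.2 fun h => hM ?_)
    rw [← fixed_borel ρ hvan hM]
    have hle : fixSub ρ (par (lbl n) : Subgroup G) ≤ fixSub ρ (parSL _ : Subgroup G) :=
      fixSub_anti ρ fun g hg => mem_par.2 fun r s hrs => (mem_parSL _).1 hg (by rw [hone, hone]; exact hrs)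
    exact le_bot_iff.1 (hle.trans_eq (Submodule.finrank_eq_zero.1 h))
  · intro κ _ hκ
    by_cases hc : ∀ i : Fin n, (κ i).val ≤ 1 + i.val
    · simp only [if_pos hc, mul_assoc, ← Finset.mul_sum]
      have hcsum : ∑ x : Fin n, (1 + x.val - (κ x).val) = n := by
        have h1 : ∑ x : Fin n, (κ x).val = ∑ x : Fin n, x.val := Equiv.sum_comp κ (fun x : Fin n => x.val)
        have h2 : ∑ x : Fin n, (1 + x.val - (κ x).val) + ∑ x : Fin n, (κ x).val = ∑ x : Fin n, (1 + x.val) := by
          rw [← Finset.sum_add_distrib]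
          exact Finset.sum_congr rfl fun x _ => Nat.sub_add_cancel (hc x)
        rw [Finset.sum_add_distrib, Finset.sum_const, Finset.card_univ, Fintype.card_fin, smul_eq_mul, mul_one] at h2
        omega
      rw [hpair, fixed_parSL_eq_bot ρ hvan hM _ hcsum ?_, finrank_bot, Nat.cast_zero, mul_zero, mul_zero]
      intro hid
      refine hκ (Equiv.ext fun k => Fin.ext ?_)
      have hone := eq_one_of_compLabel _ hid (fun k => ?_) k
      · have := hc k
        simp only [Equiv.Perm.coe_one, id_eq]
        omega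
      · exact pLE_le _ hcsum k
    · simp only [if_neg hc, zero_mul, Finset.sum_const_zero]
  · exact fun h => absurd (Finset.mem_univ _) h

/-- The degree of the Steinberg character is the `p`-part of the order. -/
theorem factorization_card_SL (p : ℕ) [Fact p.Prime] [CharP F p] (hn : 1 ≤ n) :
    p ^ (Nat.card G).factorization p = Fintype.card F ^ (n * (n - 1) / 2) := by
  haveI : Nonempty (Fin n) := ⟨⟨0, hn⟩⟩
  rw [← Unipotent.factorization_card_PSL (F := F) p hn, card_SL_eq_gcd_mul_card_PSL, Fintype.card_fin,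
    Nat.factorization_mul ((Nat.gcd_pos_of_pos_left _ hn).ne') Nat.card_pos.ne', Finsupp.add_apply,
    Nat.factorization_eq_zero_of_not_dvd, zero_add]
  intro h
  obtain ⟨k, hp, hk⟩ := FiniteField.card F p
  have h1 : p ∣ Fintype.card F := hk ▸ dvd_pow_self p k.pos.ne'
  have h2 := Nat.dvd_sub h1 (h.trans (Nat.gcd_dvd_right _ _))
  rw [Nat.sub_sub_self Fintype.card_pos] at h2
  exact hp.ne_one (Nat.dvd_one.1 h2)

/-- There is exactly one irreducible character of `SL n` of degree divisible by the full power of `p`. -/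
theorem existsUnique_full (p : ℕ) [Fact p.Prime] [CharP F p] (hn : 1 ≤ n) [Fintype G] :
    ∃! χ : IrrCharacter G, (Nat.card G).factorization p ≤ (charDegree (χ : G → ℂ)).factorization p := by
  classical
  haveI : Nonempty (Fin n) := ⟨⟨0, hn⟩⟩
  have hp : p.Prime := Fact.out
  obtain ⟨ψ, hψ, hψ1⟩ := Unipotent.exists_steinberg_PSL (F := F) p (n := n) hn
  let χ₀ : IrrCharacter G := ⟨_, isIrrCharacter_inflate (Subgroup.center G) hψ⟩
  have hd : ∀ χ : IrrCharacter G, (Nat.card G).factorization p ≤ (charDegree (χ : G → ℂ)).factorization p →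
      ∀ u : G, u ∈ rad (lbl n) → u ≠ 1 → (χ : G → ℂ) u = 0 := by
    intro χ hχ u hu hu1
    obtain ⟨M, hM⟩ := Cfsg.Lib.Block.exists_isPModular hp
    have hblk := Cfsg.Lib.Block.blockOf_eq_singleton_of_full hM χ hχ
    have heq : (charDegree (χ : G → ℂ)).factorization p = (Nat.card G).factorization p :=
      le_antisymm (((Nat.factorization_le_iff_dvd (Cfsg.Lib.Block.charDegree_pos χ).ne' Nat.card_pos.ne').2
        (Cfsg.Lib.Block.charDegree_dvd_card χ)) p) hχ
    have hdef : blockDefect p (blockOf M (χ : G → ℂ)) = 0 :=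
      (Cfsg.Lib.Block.blockDefect_eq_zero_iff hM (Cfsg.Lib.Block.isPBlock_blockOf χ)).2 ⟨χ, hblk, heq⟩
    refine Cfsg.Lib.Block.char_eq_zero_of_pPt_notMem hM χ fun E hE hmem => ?_
    have hcard := Cfsg.Lib.Block.card_defectGroup hM (Cfsg.Lib.Block.isPBlock_blockOf χ) hE
    rw [hdef, pow_zero] at hcard
    rw [Subgroup.eq_bot_of_card_eq E hcard, Subgroup.mem_bot] at hmem
    obtain ⟨k, hk⟩ := IsPGroup.iff_orderOf.1 (isPGroup_rad p (lbl n)) ⟨u, hu⟩
    rw [Subgroup.orderOf_mk] at hk
    refine (Cfsg.Lib.Block.pPt_eq_one_iff u).1 hmem ?_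
    rcases k with _ | k
    · exact absurd (orderOf_eq_one_iff.1 (hk.trans (pow_zero p))) hu1
    · rw [hk]; exact dvd_pow_self p (Nat.succ_ne_zero k)
  obtain ⟨S, hS⟩ : ∃ S : G → ℂ, ∀ g, S g = unipotentCharacterGL n F (fun _ => 1) (Matrix.SpecialLinearGroup.toGL g) :=
    ⟨_, fun g => rfl⟩
  have hSc : IsCharacter G S := by
    rw [show S = _ from funext hS]
    exact (Unipotent.isIrrCharacter_unipotent (F := F) (fun _ : Fin n => 1) monotone_const (by simp)).isCharacter.comp
      Matrix.SpecialLinearGroup.toGL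
  obtain ⟨d, hdd⟩ : ∃ d, d = p ^ (Nat.card G).factorization p := ⟨_, rfl⟩
  have hS1 : S 1 = (d : ℂ) := by
    rw [hS, map_one, Unipotent.steinberg_degree, hdd, factorization_card_SL p hn]
    push_cast; rfl
  choose m hm using fun φ : IrrCharacter G => hSc.exists_nat_classInner φ.2.isCharacter
  have hsum : d = ∑ φ : IrrCharacter G, m φ * charDegree (φ : G → ℂ) := by
    have := congrFun (eq_sum_classInner hSc.isClassFunction) 1
    simp only [Finset.sum_apply, Pi.smul_apply, smul_eq_mul, hm, hS1, Cfsg.Lib.Block.apply_one_eq_charDegree] at this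
    exact_mod_cast this
  have hbig : ∀ χ : IrrCharacter G, (Nat.card G).factorization p ≤ (charDegree (χ : G → ℂ)).factorization p →
      1 ≤ m χ ∧ d ≤ charDegree (χ : G → ℂ) := by
    intro χ hχ
    refine ⟨Nat.one_le_iff_ne_zero.2 fun h0 => ?_, ?_⟩
    · obtain ⟨k, ρ, hirr, hρ⟩ := χ.2
      haveI := hirr
      have h1 := congrArg ((Nat.card G : ℂ) * ·) (hm χ)
      simp only [classInner, h0, Nat.cast_zero, mul_zero, ← mul_assoc,
        mul_inv_cancel₀ (Nat.cast_ne_zero.2 (Nat.card_pos (α := G)).ne' : (Nat.card G : ℂ) ≠ 0), one_mul] at h1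
      have hne := sum_steinberg_mul_ne_zero ρ (fun u hu hu1 => by rw [hρ]; exact hd χ hχ u hu hu1)
        (by rw [hρ]; exact χ.2.apply_one_ne_zero)
      refine hne ?_
      have h2 := congrArg (starRingEnd ℂ) h1
      rw [map_sum, map_zero] at h2
      refine Eq.trans (Finset.sum_congr rfl fun g _ => ?_) h2
      have hreal : (starRingEnd ℂ) (S g) = S g := by
        rw [hS, unipotentCharacterGL, map_sum]
        refine Finset.sum_congr rfl fun κ _ => ?_
        split_ifs
        · simp [fixedPointCharacter]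
        · simp
      rw [map_mul, starRingEnd_self_apply, hreal, hS, hρ]
    · rw [hdd]
      exact (Nat.pow_le_pow_right hp.pos hχ).trans
        (Nat.le_of_dvd (Cfsg.Lib.Block.charDegree_pos χ) (Nat.ordProj_dvd _ _))
  have h₀ : (Nat.card G).factorization p ≤ (charDegree (χ₀ : G → ℂ)).factorization p := by
    have e : (χ₀ : G → ℂ) 1 = ((p ^ (Nat.card G).factorization p : ℕ) : ℂ) := by
      show ψ ((1 : G) : Matrix.ProjectiveSpecialLinearGroup (Fin n) F) = _
      rw [QuotientGroup.mk_one, hψ1, Unipotent.factorization_card_PSL p hn, factorization_card_SL p hn]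
    rw [Cfsg.Lib.Block.charDegree_eq_of_apply_one e, hp.factorization_pow, Finsupp.single_eq_same]
  refine ⟨χ₀, h₀, fun χ hχ => ?_⟩
  by_contra hne
  obtain ⟨a1, a2⟩ := hbig χ hχ
  obtain ⟨b1, b2⟩ := hbig χ₀ h₀
  have hd0 : 0 < d := hdd ▸ pow_pos hp.pos _
  have : ∑ φ ∈ ({χ, χ₀} : Finset (IrrCharacter G)), m φ * charDegree (φ : G → ℂ) ≤ d :=
    (Finset.sum_le_univ_sum_of_nonneg fun _ => Nat.zero_le _).trans_eq hsum.symm
  rw [Finset.sum_pair hne] at this
  have := Nat.mul_le_mul a1 a2
  have := Nat.mul_le_mul b1 b2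
  omega

end Cfsg.Lib.Linear.SLBlocks
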